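import Cfsg.Agent.Chevalley.GroupOrder
import Cfsg.Agent.Weyl.Roots
import Mathlib.FieldTheory.Finite.Basic
import Mathlib.GroupTheory.Sylow

/-!
# Every p-element of a Chevalley group in characteristic p is conjugate into U
-/

set_option autoImplicit false

namespace CfsgLib.ChevParabolic

open Cfsg.Lie CfsgLib.Chevalley

variable {D : ChevalleyDatum} {C : Weyl.Cert D.rank} {M : CoxeterMatrix (Fin D.rank)}
  {R : Weyl.RootTable} {F : Type*} [Field F]

theorem pos_le_group (hD : Good D) : D.posUnipotent F ≤ D.group F := by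
  rw [posUnipotent_eq_closure hD, Subgroup.closure_le]
  rintro _ ⟨r, -, t, rfl⟩
  exact X_mem_group hD r t

theorem exists_conj_mem_pos (hW : GoodWeyl D) (h : Weyl.RootGood C M R) [Fintype F] (p : ℕ)
    [Fact p.Prime] [CharP F p] {g : GL D.Idx F} (hg : g ∈ D.group F) {k : ℕ}
    (hgp : g ^ p ^ k = 1) : ∃ x ∈ D.group F, x * g * x⁻¹ ∈ D.posUnipotent F := by
  classical
  have := h.finite_group
  let := Fintype.ofFinite M.Group
  obtain ⟨n, -, hn⟩ := FiniteField.card F p
  have hq : Nat.card F = p ^ (n : ℕ) := by rw [Nat.card_eq_fintype_card, hn]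
  have hUle := pos_le_group (F := F) hW.good
  set S := (D.posUnipotent F).subgroupOf (D.group F)
  have hScard : Nat.card S = Nat.card F ^ half D := by
    rw [Nat.card_congr (Subgroup.subgroupOfEquivOfLe hUle).toEquiv, posUnipotent_eq hW.good,
      natCard_uGe hW.toGoodUni]
  have hSp : IsPGroup p ↥S := IsPGroup.of_card (n := n * half D) (by rw [hScard, hq, ← pow_mul])
  have hindex : ¬ p ∣ S.index := by
    have hmul := S.card_mul_index
    rw [hScard, natCard_group hW h, mul_assoc] at hmul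
    have hq0 : Nat.card F ^ half D ≠ 0 := pow_ne_zero _ (by rw [hq]; exact pow_ne_zero _ (Fact.out (p := p.Prime)).ne_zero)
    rw [mul_left_cancel₀ hq0 hmul]
    intro hdvd
    have hpq : p ∣ Nat.card F := by rw [hq]; exact dvd_pow_self p n.pos.ne'
    rcases (Fact.out (p := p.Prime)).dvd_mul.1 hdvd with h1 | h1
    · have h2 : Nat.card (D.diagonalSubgroup F) ∣ (Nat.card F - 1) ^ D.rank := by
        rw [diagonalSubgroup_eq_range hW]
        refine (Subgroup.card_range_dvd (torHom D F)).trans ?_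
        rw [Nat.card_pi, Finset.prod_const, Finset.card_univ, Fintype.card_fin, Nat.card_units]
      have h3 := (Fact.out (p := p.Prime)).dvd_of_dvd_pow (h1.trans h2)
      have h4 : 1 ≤ Nat.card F := Nat.card_pos
      have h5 := Nat.dvd_sub hpq h3
      rw [show Nat.card F - (Nat.card F - 1) = 1 by omega] at h5
      exact (Fact.out (p := p.Prime)).one_lt.ne' (Nat.dvd_one.1 h5)
    · rw [← Finset.add_sum_erase _ _ (Finset.mem_univ (1 : M.Group))] at h1
      have hrest : p ∣ ∑ w ∈ Finset.univ.erase (1 : M.Group),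
          Nat.card F ^ M.toCoxeterSystem.length w := by
        refine Finset.dvd_sum fun w hw => dvd_pow hpq fun hl => ?_
        exact (Finset.mem_erase.1 hw).1 ((M.toCoxeterSystem.length_eq_zero_iff).1 hl)
      have h2 := (Nat.dvd_add_left hrest).1 h1
      rw [CoxeterSystem.length_one, pow_zero] at h2
      exact (Fact.out (p := p.Prime)).one_lt.ne' (Nat.dvd_one.1 h2)
  let P := hSp.toSylow hindex
  have hz : IsPGroup p ↥(Subgroup.zpowers (⟨g, hg⟩ : ↥(D.group F))) := by
    obtain ⟨j, -, hj⟩ := (Nat.dvd_prime_pow Fact.out).1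
      (orderOf_dvd_of_pow_eq_one (show (⟨g, hg⟩ : ↥(D.group F)) ^ p ^ k = 1 from Subtype.ext hgp))
    exact IsPGroup.of_card (n := j) (by rw [Nat.card_zpowers, hj])
  obtain ⟨Q, hQ⟩ := hz.exists_le_sylow
  obtain ⟨x, hx⟩ := MulAction.exists_smul_eq ↥(D.group F) Q P
  have hmem : x * ⟨g, hg⟩ * x⁻¹ ∈ (P : Subgroup ↥(D.group F)) := by
    rw [← hx, Sylow.coe_subgroup_smul]
    exact ⟨_, hQ (Subgroup.mem_zpowers _), rfl⟩
  exact ⟨x, x.2, hmem⟩

end CfsgLib.ChevParabolic
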