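import Cfsg.Agent.Chevalley.Parabolic
import Cfsg.Agent.ChevInvol.Bruhat
import Cfsg.Agent.ChevTorus.Order

/-!
# The centralizer of the unipotent radical of a proper parabolic subgroup is unipotent
-/

set_option autoImplicit false

namespace CfsgLib.ChevParabolic

open Cfsg.Lie CfsgLib.Chevalley
open ChevTorus (co co_pRoot)

variable {D : ChevalleyDatum} {C : Weyl.Cert D.rank} {M : CoxeterMatrix (Fin D.rank)}
  {R : Weyl.RootTable} {F : Type*} [Field F] {J : Set (Fin D.rank)}

/-- For all `i ≠ j` some root involving `p_i` stays such a root when `p_j` is added. -/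
def linkOk (D : ChevalleyDatum) : Bool :=
  (List.range D.rank).all fun i => (List.range D.rank).all fun j => decide (i = j) ||
    (List.range D.nroots).any fun s => decide (half D ≤ s) &&
      decide ((D.coroot.getD s #[]).getD i 0 ≠ 0) &&
      match D.chainRoot (D.simple j) s 1 with
      | some r => decide (half D ≤ r) && decide ((D.coroot.getD r #[]).getD i 0 ≠ 0)
      | none => false

/-- A root element with a nonzero parameter lies in no later term of the series. -/
theorem X_notMem_uGe (hU : GoodUni D) {r : Root D} (hr : half D ≤ (r : ℕ)) {t : F} (ht : t ≠ 0)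
    {m : ℕ} (hm : (r : ℕ) + 1 ≤ m) : X hU.good r t ∉ uGe hU.good F false m := by
  intro h
  obtain ⟨i, hi⟩ := hU.exists_coroot_ne F r
  have h0 := entry_eq_zero hU.good (uGe_mono hU.good hm h) i (r := r) hr le_rfl
  rw [coe_X, xR_entry_coroot hU.good, if_pos rfl] at h0
  exact mul_ne_zero ht hi h0

theorem eq_of_X_mul (hU : GoodUni D) {r s : Root D} (hr : half D ≤ (r : ℕ))
    (hs : half D ≤ (s : ℕ)) {a b : F} (ha : a ≠ 0) (hb : b ≠ 0) {z : GL D.Idx F}
    (hz : z ∈ uGe hU.good F false ((r : ℕ) + 1)) (e : X hU.good s a = X hU.good r b * z) :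
    s = r ∧ a = b := by
  rcases lt_trichotomy (s : ℕ) r with hlt | heq | hgt
  · refine absurd ?_ (X_notMem_uGe hU hs ha le_rfl)
    rw [e]
    exact mul_mem (X_mem_uGe hU.good (b := false) hr (show (s : ℕ) + 1 ≤ (r : ℕ) from hlt) b)
      (uGe_mono hU.good (by omega) hz)
  · obtain rfl : s = r := Fin.ext heq
    refine ⟨rfl, ?_⟩
    by_contra hne
    refine X_notMem_uGe hU hr (sub_ne_zero.2 hne) le_rfl ?_
    rw [show a - b = -b + a by ring, ← X_mul, ← X_inv, e, inv_mul_cancel_left]
    exact hz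
  · refine absurd ?_ (X_notMem_uGe hU hr hb le_rfl)
    have h1 : X hU.good r b = X hU.good s a * z⁻¹ := by rw [e, mul_inv_cancel_right]
    rw [h1]
    exact mul_mem (X_mem_uGe hU.good (b := false) hs (show (r : ℕ) + 1 ≤ (s : ℕ) from hgt) a)
      (inv_mem hz)

/-- Conjugation by `U` fixes a root element up to later terms. -/
theorem conj_pos_mod (hC : GoodComm D) {r : Root D} (hr : half D ≤ (r : ℕ)) (t : F)
    {v : GL D.Idx F} (hv : v ∈ D.posUnipotent F) :
    (X hC.good r t)⁻¹ * (v⁻¹ * X hC.good r t * v) ∈ uGe hC.good F false ((r : ℕ) + 1) := by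
  set x := X hC.good r t
  rw [posUnipotent_eq hC.good] at hv
  have hn : ∀ q ∈ uGe hC.good F false (half D), ∀ z ∈ uGe hC.good F false ((r : ℕ) + 1),
      q * z * q⁻¹ ∈ uGe hC.good F false ((r : ℕ) + 1) := fun q hq z hz =>
    (Subgroup.mem_normalizer_iff.1 (uGe_half_le_normalizer hC _ hq) z).1 hz
  induction hv using Subgroup.closure_induction with
  | mem y hy =>
    obtain ⟨s, hs, -, u, rfl⟩ := hy
    have := X_commutator_mem hC (b := false) hr hs t u
    rwa [show (X hC.good s u * x)⁻¹ * (x * X hC.good s u) =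
      x⁻¹ * ((X hC.good s u)⁻¹ * x * X hC.good s u) by group] at this
  | one => simp
  | mul p q _ hq ihp ihq =>
    rw [show x⁻¹ * ((p * q)⁻¹ * x * (p * q)) =
      (x⁻¹ * (q⁻¹ * x * q)) * (q⁻¹ * (x⁻¹ * (p⁻¹ * x * p)) * q⁻¹⁻¹) by group]
    exact mul_mem ihq (hn _ (inv_mem hq) _ ihp)
  | inv p hp ih =>
    rw [show x⁻¹ * (p⁻¹⁻¹ * x * p⁻¹) = (p * (x⁻¹ * (p⁻¹ * x * p)) * p⁻¹)⁻¹ by group]
    exact inv_mem (hn _ hp _ ih)

theorem mem_reflGroup_rootPerm (hW : GoodWeyl D) (h : Weyl.RootGood C M R) (w : M.Group) :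
    h.rootPerm w ∈ wJ hW (Set.univ : Set (Fin D.rank)) := by
  induction w using M.toCoxeterSystem.simple_induction_left with
  | one => rw [map_one]; exact one_mem _
  | mul_simple_left w i ih =>
    rw [map_mul, CoxeterMatrix.toCoxeterSystem_simple, ← wPerm_eq_rootPerm hW h]
    exact mul_mem (Subgroup.subset_closure ⟨i, Set.mem_univ _, rfl⟩) ih

theorem linkOk_spec (hC : GoodComm D) (hok : linkOk D = true) {i j : Fin D.rank} (hij : i ≠ j)
    (hi : i ∉ J) (hp : (D.simple j) < D.nroots) :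
    ∃ r s : Root D, r ∈ radJ D J ∧ s ∈ radJ D J ∧
      ∀ l : Fin D.rank, D.cartan l r = D.cartan l (D.simple j) + D.cartan l s := by
  simp only [linkOk, List.all_eq_true, List.mem_range, Bool.or_eq_true, decide_eq_true_eq,
    List.any_eq_true, Bool.and_eq_true] at hok
  obtain ⟨s, hs, ⟨h1, h2⟩, h3⟩ :=
    (hok i i.isLt j j.isLt).resolve_left fun e => hij (Fin.ext e)
  split at h3
  · next r hr =>
    simp only [Bool.and_eq_true, decide_eq_true_eq] at h3
    have hne : (⟨s, hs⟩ : Root D) ≠ (⟨D.simple j, hp⟩ : Root D).rev :=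
      hC.good.rev_ne_of_key (b := false) (hC.good.half_le_simple j.isLt) h1
    obtain ⟨hrn, e⟩ := Good.chainRoot_cartan hC (x := ⟨D.simple j, hp⟩) (y := ⟨s, hs⟩) hne
      one_pos hr
    refine ⟨⟨r, hrn⟩, ⟨s, hs⟩, ⟨h3.1, fun hJ => h3.2 (hJ i hi)⟩, ⟨h1, fun hJ => h2 (hJ i hi)⟩,
      fun l => ?_⟩
    rw [e l]; ring
  · simp at h3

/-- An element of `G` centralizing the radical of a proper parabolic subgroup lies in `U`. -/
theorem centralizer_rad_le_pos (hW : GoodWeyl D) (h : Weyl.RootGood C M R) (hok : linkOk D = true)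
    {i₀ : Fin D.rank} (hJ : i₀ ∉ J) :
    D.group F ⊓ Subgroup.centralizer (rootGen hW.good F (radJ D J) : Set (GL D.Idx F)) ≤
      D.posUnipotent F := by
  rintro g ⟨hg, hgc⟩
  obtain ⟨u, hu, y, hy, w, u', hu', rfl⟩ := ChevInvol.exists_bruhat hW h hg
  have hN : ∀ x ∈ D.posUnipotent F,
      x ∈ Subgroup.normalizer (rootGen hW.good F (radJ D J) : Set (GL D.Idx F)) :=
    fun x hx => pJ_le_normalizer hW (Subgroup.mem_sup_left (pos_le_borel D hx))
  set v := u' * u with hv
  have hvU : v ∈ D.posUnipotent F := mul_mem hu' hu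
  have hc : ∀ r ∈ radJ D J, ∀ t : F,
      Commute (v * y * nW hW h F w) (X hW.good r t) := by
    intro r hr t
    have h1 := (Subgroup.mem_normalizer_iff.1 (hN _ (inv_mem hu')) _).1 (X_mem_rootGen hW.good hr t)
    have h2 := hgc _ h1
    show v * y * nW hW h F w * X hW.good r t = X hW.good r t * (v * y * nW hW h F w)
    rw [inv_inv] at h2
    calc v * y * nW hW h F w * X hW.good r t
        = u' * ((u * y * nW hW h F w * u') * (u'⁻¹ * X hW.good r t * u')) * u'⁻¹ := by
          rw [hv]; group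
      _ = u' * ((u'⁻¹ * X hW.good r t * u') * (u * y * nW hW h F w * u')) * u'⁻¹ := by rw [h2]
      _ = X hW.good r t * (v * y * nW hW h F w) := by rw [hv]; group
  -- the roots of the radical are fixed, with trivial scalar
  have hfix : ∀ r ∈ radJ D J, ∀ e c : Fˣ,
      (∀ t, nW hW h F w * X hW.good r t * (nW hW h F w)⁻¹ =
        X hW.good (h.rootPerm w r) ((c : F) * t)) →
      (∀ t, y⁻¹ * X hW.good r t * y = X hW.good r ((e : F) * t)) →
      h.rootPerm w r = r ∧ (c : F) = e := by
    intro r hr e c hcn hey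
    set z := (X hW.good r 1)⁻¹ * (v⁻¹ * X hW.good r 1 * v) with hz
    have hzm : z ∈ uGe hW.good F false ((r : ℕ) + 1) := conj_pos_mod hW.toGoodComm hr.1 1 hvU
    have hyn := Subgroup.mem_normalizer_iff.1 (diag_le_normalizer_pos hW hy)
    have e1 : X hW.good (h.rootPerm w r) ((c : F) * 1) =
        X hW.good r ((e : F) * 1) * (y⁻¹ * z * y) := by
      rw [← hcn, ← hey, hz]
      calc nW hW h F w * X hW.good r 1 * (nW hW h F w)⁻¹
          = y⁻¹ * v⁻¹ * ((v * y * nW hW h F w) * X hW.good r 1) * (nW hW h F w)⁻¹ := by group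
        _ = y⁻¹ * v⁻¹ * (X hW.good r 1 * (v * y * nW hW h F w)) * (nW hW h F w)⁻¹ := by
          rw [(hc r hr 1).eq]
        _ = _ := by group
    have hzy : y⁻¹ * z * y ∈ uGe hW.good F false ((r : ℕ) + 1) := by
      have key : uGe hW.good F false ((r : ℕ) + 1) =
          rootGen hW.good F {s | half D ≤ (s : ℕ) ∧ (r : ℕ) + 1 ≤ s} := by
        rw [uGe, rootGen]; congr 1; ext g
        simp only [key, Bool.false_eq_true, if_false, Set.mem_ofPred_eq, and_assoc]
      rw [key] at hzm ⊢
      have := ((Subgroup.mem_normalizer_iff.1 (diag_le_normalizer_rootGen hW _ (inv_mem hy))) z).1 hzm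
      rwa [inv_inv] at this
    have hpos : half D ≤ (h.rootPerm w r : ℕ) := by
      refine key_of_X_mem (b := false) hW.toGoodUni (t := (c : F) * 1) (by simp) (m := half D) ?_
      rw [e1]
      exact mul_mem (X_mem_uGe hW.good (b := false) hr.1 hr.1 _)
        (uGe_mono hW.good (by have := hr.1; omega) hzy)
    obtain ⟨h1, h2⟩ := eq_of_X_mul hW.toGoodUni hr.1 hpos (by simp) (by simp) hzy e1
    exact ⟨h1, by simpa using h2⟩
  have hscal : ∀ r : Root D, ∃ e c : Fˣ,
      (∀ t, nW hW h F w * X hW.good r t * (nW hW h F w)⁻¹ =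
        X hW.good (h.rootPerm w r) ((c : F) * t)) ∧
      (∀ t, y⁻¹ * X hW.good r t * y = X hW.good r ((e : F) * t)) := by
    intro r
    obtain ⟨c, hcc⟩ := (monBy_nW (F := F) hW h w).conj_X r
    obtain ⟨e, hee⟩ := diag_conj_X hW (inv_mem hy) r
    exact ⟨e, c, hcc, fun t => by rw [← hee, inv_inv]⟩
  have hwfix : ∀ r ∈ radJ D J, h.rootPerm w r = r := fun r hr => by
    obtain ⟨e, c, h1, h2⟩ := hscal r
    exact (hfix r hr e c h1 h2).1
  have hi0 : pRoot hW i₀ ∈ radJ D J := ⟨pRoot_pos hW i₀, fun hm => by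
    have := hm i₀ hJ
    simp [co_pRoot hW] at this⟩
  -- hence the fundamental roots stay positive
  have hsimple : ∀ j : Fin D.rank, half D ≤ (h.rootPerm w (pRoot hW j) : ℕ) := by
    intro j
    by_cases hj : j = i₀
    · subst hj; rw [hwfix _ hi0]; exact pRoot_pos hW j
    obtain ⟨r, s, hr, hs, e⟩ :=
      linkOk_spec hW.toGoodComm hok (Ne.symm hj) hJ (hW.good.simple_lt j.isLt)
    have hl := wt_map_linear hW (mem_reflGroup_rootPerm hW h w) (a := Sum.inr r)
      (b := Sum.inr s) (c := Sum.inr (pRoot hW j)) (x := 1) (y := -1)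
      (fun l => by simp only [wt_inr, genR, gen]; rw [e l]; simp)
    rw [hW.good.pos_iff_ht]
    have heq : ht D (Sum.inr (h.rootPerm w (pRoot hW j))) = ht D (Sum.inr (pRoot hW j)) := by
      simp only [ht]
      refine Finset.sum_congr rfl fun l _ => ?_
      have := hl l
      simp only [Sum.map_inr, hwfix r hr, hwfix s hs] at this
      rw [this]
      simp only [wt_inr, genR, gen]
      rw [e l]; simp
    rw [heq]
    exact (hW.good.pos_iff_ht _).1 (pRoot_pos hW j)
  have hw1 : w = 1 := h.eq_one_of_invSet_empty (h.invSet_eq_empty fun j => by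
    rw [posIdx_iff hW.good h, simpleRoot_eq hW h]; exact hsimple j)
  subst hw1
  have hn1 : nW hW h F 1 ∈ D.diagonalSubgroup F := by
    rw [← borel_inf_monomial hW h]
    exact ⟨cell_one (F := F) hW h ▸ nW_mem_cell hW h 1, nW_mem hW h 1⟩
  set k := y * nW hW h F 1 with hk
  have hkH : k ∈ D.diagonalSubgroup F := mul_mem hy hn1
  obtain ⟨c, hck⟩ : k ∈ (torHom D F).range := by rwa [← diagonalSubgroup_eq_range hW]
  have hk1 : ∀ r ∈ radJ D J, ChevTorus.torVal c (Sum.inr r) = (1 : Fˣ) := by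
    intro r hr
    obtain ⟨e, cc, h1, h2⟩ := hscal r
    have hec := (hfix r hr e cc h1 h2).2
    have h3 := ChevTorus.torC_conj_X hW.good c r (1 : F)
    rw [show torC D c = k from hck, hk, show y * nW hW h F 1 * X hW.good r 1 *
      (y * nW hW h F 1)⁻¹ = y * (nW hW h F 1 * X hW.good r 1 * (nW hW h F 1)⁻¹) * y⁻¹ by group,
      h1, map_one, Equiv.Perm.one_apply, hec, ← h2,
      show y * (y⁻¹ * X hW.good r 1 * y) * y⁻¹ = X hW.good r 1 by group, mul_one] at h3
    exact Units.ext (X_injective hW.good r h3).symm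
  have hkone : k = 1 := by
    rw [← show torC D c = k from hck, ChevTorus.torC_eq_one_iff hW]
    funext j
    rw [← ChevTorus.torVal_pRoot hW, Pi.one_apply]
    by_cases hj : j = i₀
    · subst hj; exact hk1 _ hi0
    obtain ⟨r, s, hr, hs, e⟩ :=
      linkOk_spec hW.toGoodComm hok (Ne.symm hj) hJ (hW.good.simple_lt j.isLt)
    have he : ChevTorus.torVal c (Sum.inr r) =
        ChevTorus.torVal c (Sum.inr (pRoot hW j)) * ChevTorus.torVal c (Sum.inr s) := by
      simp only [ChevTorus.torVal, ← Finset.prod_mul_distrib, ← zpow_add]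
      exact Finset.prod_congr rfl fun l _ => by congr 1; simp [wt, e l, genR, gen]
    rw [hk1 r hr, hk1 s hs, mul_one] at he
    exact he.symm
  rw [show u * y * nW hW h F 1 * u' = u * k * u' by rw [hk]; group, hkone, mul_one]
  exact mul_mem hu hu'

end CfsgLib.ChevParabolic
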